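import Cfsg.Agent.Lib.ToddCox.HCVT.Main
import Cfsg.Agent.Lib.ToddCox.Final
set_option autoImplicit false
set_option maxRecDepth 100000
namespace Cfsg.Agent.Lib.ToddCox.HCVO
def O_0 : ℕ := 0x40f0000000001d0040e0000000001c00c0f000008000190040d000000000180080f000010000150080e000010000140080f00001800011000000000000001000c0c0000040001d0040c0000000001c0080c00000c000190080c000008000180100a00002c000150080a0000280001400c0a0000240001100c0a000020000100040b0000000000d004090000000000c0080b00000800009000000000000000800c060000240001d008060000200001c010050000340001900c0500003000018008070000040001500407000000000140140600002c000110100600002800010010080000100000d00c070000300000c01405000014000090100500001000008004080000000000500000000000000040100100002c0001f00c010000280001e014010000240001b010010000200001a00c0200000c0001700802000008000160100400002c0001300c0400002800012014030000180000f010020000380000e0180000001c0000b014000000180000a0080300000800007004040000000000600c0400000c000030000000000000002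
def oT (j : ℕ) : ℕ := O_0
noncomputable def oC (h : ℕ) : ℕ := Nat.rec (motive := fun _ => ℕ) (oT 0) (fun n _ => oT (Nat.succ n)) h
noncomputable def orbR (j : ℕ) : ℕ := Nat.land (Nat.shiftRight (oC (Nat.shiftRight j 6)) (Nat.mul (Nat.land j 63) 64)) 18446744073709551615
def L : List (List ℕ) := [[nat_lit 0],
  [nat_lit 1],
  [nat_lit 2],
  [nat_lit 3],
  [nat_lit 4],
  [nat_lit 0],
  [nat_lit 1],
  [nat_lit 2],
  [nat_lit 3],
  [nat_lit 0],
  [nat_lit 1],
  [nat_lit 3, nat_lit 0, nat_lit 3],
  [nat_lit 2, nat_lit 0, nat_lit 2],
  [nat_lit 1],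
  [nat_lit 0, nat_lit 1, nat_lit 0],
  [nat_lit 3, nat_lit 0, nat_lit 3, nat_lit 1, nat_lit 3, nat_lit 0, nat_lit 3]]
end Cfsg.Agent.Lib.ToddCox.HCVO
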